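import Cfsg.Agent.Lib.Walter.Basic
import Cfsg.Agent.Lib.Walter66.Config
import Cfsg.Agent.Lib.AutPSL.Classes

/-!
# Section Z: a chart of the centraliser of an involution in a group of Janko–Ree type

A Sylow 2-subgroup `S = ⟨u⟩ × {1, a, b, ab}` and an isomorphism `E₀ ≃ PSL(2,q)` under which `a`, `b`
are images of matrices over the prime field.  Owner: helper87.
-/

set_option autoImplicit false
set_option linter.style.haveILetI false
set_option linter.unusedSectionVars false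

universe u

namespace Cfsg.Agent.Lib.Walter.NoField.Cent

open Subgroup Matrix Cfsg.Agent.Lib.AutPSL
open scoped MatrixGroups

variable {G : Type u} [Group G] [Finite G]

theorem odd_orderOf_of_mem {X : Subgroup G} (hX : Odd (Nat.card X)) {x : G} (hx : x ∈ X) :
    Odd (orderOf x) :=
  hX.of_dvd_nat (Subgroup.orderOf_dvd_natCard _ hx)

/-- The configuration of helper66 at an involution. -/
theorem conf_of (hG : IsJR G) {t : G} (ht : orderOf t = 2) {E E₀ : Subgroup G}
    (h : IsJRCentralizer t E E₀) : Walter66.Conf t E E₀ := by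
  obtain ⟨⟨h1, h2, h3, h4, h5⟩, hle, hn, -, hodd, hc⟩ := h
  have hnot : t ∉ E := fun he => Walter66.ne_one_of_ord ht (mem_bot.1 (h4 ▸ mem_inf.2 ⟨mem_zpowers t, he⟩))
  have htt := Walter66.sq_of_ord ht
  have hte : ∀ e ∈ E, e * t = t * e := fun e he => (h3 t (mem_zpowers t) e he).symm
  refine ⟨fun P => (hG.elementary P).1, ht, hte, hnot, ?_, hle, ?_, ?_, ?_⟩
  · intro c hc'
    let T : Subgroup G :=
      { carrier := {c | ∃ e ∈ E, c = e ∨ c = t * e}
        one_mem' := ⟨1, one_mem _, Or.inl rfl⟩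
        mul_mem' := by
          rintro a b ⟨e, he, ha | ha⟩ ⟨f, hf, hb | hb⟩ <;> subst ha hb
          · exact ⟨a * b, mul_mem he hf, Or.inl rfl⟩
          · exact ⟨a * f, mul_mem he hf, Or.inr (by rw [← mul_assoc, hte a he, mul_assoc])⟩
          · exact ⟨e * b, mul_mem he hf, Or.inr (mul_assoc _ _ _)⟩
          · refine ⟨e * f, mul_mem he hf, Or.inl ?_⟩
            rw [show t * e * (t * f) = t * (e * t) * f by group, hte e he, ← mul_assoc t t e, htt,
              one_mul]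
        inv_mem' := by
          rintro a ⟨e, he, ha | ha⟩ <;> subst ha
          · exact ⟨a⁻¹, inv_mem he, Or.inl rfl⟩
          · refine ⟨e⁻¹, inv_mem he, Or.inr ?_⟩
            rw [_root_.mul_inv_rev, inv_eq_of_mul_eq_one_right htt, hte _ (inv_mem he)] }
    have hle' : centralizer ({t} : Set G) ≤ T :=
      h5 ▸ sup_le (zpowers_le.2 ⟨1, one_mem _, Or.inr (mul_one t).symm⟩)
        fun e he => ⟨e, he, Or.inl rfl⟩
    exact hle' (mem_centralizer_singleton_iff.2 hc')
  · intro c hc' x hx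
    have := hn.conj_mem ⟨x, hle hx⟩ (mem_subgroupOf.2 hx) ⟨c, hc'⟩
    simpa using mem_subgroupOf.1 this
  · intro c hc' hcent
    have : c ∈ E ⊓ centralizer (E₀ : Set G) :=
      ⟨hc', mem_centralizer_iff.2 fun x hx => (hcent x hx).symm⟩
    rwa [hc, mem_bot] at this
  · obtain ⟨F, i1, i2, hq, -, e⟩ := hodd
    exact ⟨F, i1, i2, Nat.odd_iff.2 (by omega), e⟩

/-- A chart of `C(t) = ⟨t⟩ × E` adapted to `S`. -/
structure Chart (S : Sylow 2 G) (t : G) (E E₀ : Subgroup G) (F : Type) [Field F] [Fintype F] where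
  jr : IsJR G
  ord : orderOf t = 2
  mem : t ∈ (S : Subgroup G)
  cent : IsJRCentralizer t E E₀
  φ : ↥E₀ ≃* Matrix.ProjectiveSpecialLinearGroup (Fin 2) F
  i : Matrix.SpecialLinearGroup (Fin 2) F
  j : Matrix.SpecialLinearGroup (Fin 2) F
  w : Matrix.SpecialLinearGroup (Fin 2) F
  quat : Walter66.Quat i j w
  fix_i : ∀ σ : F ≃+* F, fieldSL σ i = i
  fix_j : ∀ σ : F ≃+* F, fieldSL σ j = j
  card_mod : Fintype.card F % 8 = 3 ∨ Fintype.card F % 8 = 5
  five : 5 ≤ Fintype.card F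
  a_mem : ((φ.symm (QuotientGroup.mk i) : ↥E₀) : G) ∈ (S : Subgroup G)
  b_mem : ((φ.symm (QuotientGroup.mk j) : ↥E₀) : G) ∈ (S : Subgroup G)

/-- Quaternion generators with entries in the prime field. -/
theorem exists_quat_fixed (F : Type) [Field F] [Fintype F] (h2 : (2 : F) ≠ 0) :
    ∃ i j w : Matrix.SpecialLinearGroup (Fin 2) F, Walter66.Quat i j w ∧
      (∀ σ : F ≃+* F, fieldSL σ i = i) ∧ (∀ σ : F ≃+* F, fieldSL σ j = j) := by
  obtain ⟨p, hp⟩ := CharP.exists F
  haveI : Fact p.Prime := ⟨CharP.char_is_prime F p⟩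
  have h2p : (2 : ZMod p) ≠ 0 := fun h => h2 (by
    have := congrArg (ZMod.castHom dvd_rfl F) h
    rwa [map_ofNat, map_zero] at this)
  obtain ⟨i, j, w, Q⟩ := Walter66.exists_quat (F := ZMod p) h2p
  let c : ZMod p →+* F := ZMod.castHom dvd_rfl F
  let m := Matrix.SpecialLinearGroup.map (n := Fin 2) c
  have hc : ∀ s : Matrix.SpecialLinearGroup (Fin 2) (ZMod p),
      (m s : Matrix (Fin 2) (Fin 2) F) = c.mapMatrix (s : Matrix (Fin 2) (Fin 2) (ZMod p)) :=
    fun _ => rfl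
  have hfix : ∀ (σ : F ≃+* F) s, fieldSL σ (m s) = m s := fun σ s => by
    refine Subtype.ext (Matrix.ext fun x y => ?_)
    exact RingHom.congr_fun (Subsingleton.elim (σ.toRingHom.comp c) c)
      ((s : Matrix (Fin 2) (Fin 2) (ZMod p)) x y)
  refine ⟨m i, m j, m w, ⟨?_, ?_, ?_, ?_, ?_⟩, fun σ => hfix σ i, fun σ => hfix σ j⟩
  · rw [hc, ← map_mul, Q.sqi, map_neg, map_one]
  · rw [hc, ← map_mul, Q.sqj, map_neg, map_one]
  · rw [hc, hc, ← map_mul, ← map_mul, Q.anti, map_neg]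
  · rw [hc, hc, hc, ← map_mul, ← map_mul, Q.wj]
  · rw [hc, hc, hc, ← map_mul, ← map_mul, ← map_mul, Q.wi]

theorem exists_chart (hG : IsJR G) (S : Sylow 2 G) {t : G} (ht : orderOf t = 2)
    (htS : t ∈ (S : Subgroup G)) {E E₀ : Subgroup G} (h : IsJRCentralizer t E E₀) :
    ∃ (F : Type) (_ : Field F) (_ : Fintype F), Nonempty (Chart S t E E₀ F) := by
  haveI : Fact (Nat.Prime 2) := ⟨Nat.prime_two⟩
  have K := conf_of hG ht h
  obtain ⟨F, i1, i2, hq, h5, ⟨φ⟩⟩ := h.2.2.2.2.1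
  have h2 : (2 : F) ≠ 0 := PSLTwo.Sylow.two_ne_zero_of_odd (by omega)
  obtain ⟨i, j, w, Q, hi, hj⟩ := exists_quat_fixed F h2
  set a : G := ((φ.symm (QuotientGroup.mk i) : ↥E₀) : G) with ha
  set b : G := ((φ.symm (QuotientGroup.mk j) : ↥E₀) : G) with hb
  have haE : a ∈ E₀ := SetLike.coe_mem _
  have hbE : b ∈ E₀ := SetLike.coe_mem _
  have hat := K.mem_cent a (K.le haE)
  have hbt := K.mem_cent b (K.le hbE)
  have ha2 : a * a = 1 := by rw [ha, ← Subgroup.coe_mul, ← map_mul, Q.sq_mk_i, map_one]; rfl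
  have hb2 : b * b = 1 := by rw [hb, ← Subgroup.coe_mul, ← map_mul, Q.sq_mk_j, map_one]; rfl
  have hab : a * b = b * a := by
    rw [ha, hb, ← Subgroup.coe_mul, ← Subgroup.coe_mul, ← map_mul, ← map_mul, Q.comm_mk]
  obtain ⟨R, hR⟩ := (Walter66.closure_pgroup (s := ({t, a, b} : Set G))
    (by rintro x (rfl | rfl | rfl); exacts [Walter66.sq_of_ord ht, ha2, hb2])
    (by
      rintro x (rfl | rfl | rfl) y (rfl | rfl | rfl)
      exacts [rfl, hat.symm, hbt.symm, hat, rfl, hab, hbt, hab.symm, rfl])).exists_le_sylow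
  have htR : t ∈ (R : Subgroup G) := hR (subset_closure (Or.inl rfl))
  have h1 : (R : Subgroup G) ≤ centralizer ({t} : Set G) := fun x hx =>
    mem_centralizer_singleton_iff.2 (Walter66.pgroup_comm K.sylow R.isPGroup' hx htR)
  have h2' : (S : Subgroup G) ≤ centralizer ({t} : Set G) := fun x hx =>
    mem_centralizer_singleton_iff.2 (Walter66.pgroup_comm K.sylow S.isPGroup' hx htS)
  obtain ⟨c, hc⟩ := MulAction.exists_smul_eq (centralizer ({t} : Set G))
    (R.subtype h1) (S.subtype h2')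
  rw [Sylow.smul_subtype] at hc
  have hc' := Sylow.subtype_injective hc
  have hct : (c : G) * t = t * c := mem_centralizer_singleton_iff.1 c.2
  have hcit : (c : G)⁻¹ * t = t * (c : G)⁻¹ := (show Commute (c : G) t from hct).inv_left.eq
  have hmem : ∀ x ∈ (R : Subgroup G), (c : G) * x * (c : G)⁻¹ ∈ (S : Subgroup G) := fun x hx => by
    rw [← hc']; exact ⟨x, hx, rfl⟩
  let α : ↥E₀ ≃* ↥E₀ :=
    { toFun := fun x => ⟨(c : G)⁻¹ * x * c, by
        simpa using K.conj_E₀ hcit x.2⟩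
      invFun := fun x => ⟨(c : G) * x * (c : G)⁻¹, K.conj_E₀ hct x.2⟩
      left_inv := fun x => Subtype.ext (by simp [mul_assoc])
      right_inv := fun x => Subtype.ext (by simp [mul_assoc])
      map_mul' := fun x y => Subtype.ext (by simp [mul_assoc]) }
  exact ⟨F, i1, i2, ⟨⟨hG, ht, htS, h, α.trans φ, i, j, w, Q, hi, hj, hq, h5,
    hmem a (hR (subset_closure (Or.inr (Or.inl rfl)))),
    hmem b (hR (subset_closure (Or.inr (Or.inr rfl))))⟩⟩⟩

namespace Chart

variable {S : Sylow 2 G} {t : G} {E E₀ : Subgroup G} {F : Type} [Field F] [Fintype F]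
  (c : Chart S t E E₀ F)

local notation "PSL2" => Matrix.ProjectiveSpecialLinearGroup (Fin 2) F

/-- The model as a map into `G`. -/
def emb : PSL2 →* G := E₀.subtype.comp c.φ.symm.toMonoidHom

/-- The first involution of the four-group. -/
def a : G := c.emb (QuotientGroup.mk c.i)

/-- The second involution of the four-group. -/
def b : G := c.emb (QuotientGroup.mk c.j)

/-- The element cycling the four-group. -/
def r : G := c.emb (QuotientGroup.mk c.w)

include c

theorem conf : Walter66.Conf t E E₀ := conf_of c.jr c.ord c.cent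

theorem two_ne : (2 : F) ≠ 0 :=
  PSLTwo.Sylow.two_ne_zero_of_odd (by have := c.card_mod; omega)

theorem emb_injective : Function.Injective c.emb :=
  Subtype.val_injective.comp c.φ.symm.injective

theorem emb_mem (p : PSL2) : c.emb p ∈ E₀ := (c.φ.symm p).2

theorem exists_emb {x : G} (hx : x ∈ E₀) : ∃ p, c.emb p = x :=
  ⟨c.φ ⟨x, hx⟩, by simp [emb]⟩

theorem amem : c.a ∈ E₀ := c.emb_mem _
theorem bmem : c.b ∈ E₀ := c.emb_mem _
theorem rmem : c.r ∈ E₀ := c.emb_mem _
theorem amemS : c.a ∈ (S : Subgroup G) := c.a_mem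
theorem bmemS : c.b ∈ (S : Subgroup G) := c.b_mem

theorem sq_a : c.a * c.a = 1 := by rw [a, ← map_mul, c.quat.sq_mk_i, map_one]
theorem sq_b : c.b * c.b = 1 := by rw [b, ← map_mul, c.quat.sq_mk_j, map_one]
theorem comm_ab : c.a * c.b = c.b * c.a := by rw [a, b, ← map_mul, ← map_mul, c.quat.comm_mk]

theorem a_ne_one : c.a ≠ 1 := fun h =>
  c.quat.i_ne_one c.two_ne (c.emb_injective (h.trans (map_one c.emb).symm))

theorem b_ne_one : c.b ≠ 1 := fun h =>
  c.quat.j_ne_one c.two_ne (c.emb_injective (h.trans (map_one c.emb).symm))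

theorem a_ne_b : c.a ≠ c.b := fun h => c.quat.i_ne_j c.two_ne (c.emb_injective h)

theorem ab_ne_one : c.a * c.b ≠ 1 := fun h => c.a_ne_b (by
  rw [eq_inv_of_mul_eq_one_left h, inv_eq_of_mul_eq_one_right c.sq_b])

theorem ord_a : orderOf c.a = 2 := orderOf_eq_prime (by rw [pow_two, c.sq_a]) c.a_ne_one

theorem conj_rb : c.r * c.b * c.r⁻¹ = c.a := by
  rw [a, b, r, ← map_inv, ← map_mul, ← map_mul, c.quat.cyc_j]

theorem conj_ra : c.r * c.a * c.r⁻¹ = c.a * c.b := by
  rw [a, b, r, ← map_inv, ← map_mul, ← map_mul, c.quat.cyc_i, map_mul]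

theorem conj_rab : c.r * (c.a * c.b) * c.r⁻¹ = c.b := by
  rw [show c.r * (c.a * c.b) * c.r⁻¹ = (c.r * c.a * c.r⁻¹) * (c.r * c.b * c.r⁻¹) by group,
    c.conj_ra, c.conj_rb, c.comm_ab, mul_assoc, c.sq_a, mul_one]

theorem four_cases {x : G} (hx : x ∈ E₀) (ha : x * c.a = c.a * x) (hb : x * c.b = c.b * x) :
    x = 1 ∨ x = c.a ∨ x = c.b ∨ x = c.a * c.b := by
  obtain ⟨p, rfl⟩ := c.exists_emb hx
  have h : ∀ {q}, c.emb p * c.emb q = c.emb q * c.emb p → p * q = q * p := fun h =>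
    c.emb_injective (by rw [map_mul, map_mul, h])
  rcases c.quat.centralizes c.two_ne (h ha) (h hb) (PushUpP.center_psl (F := F)) with
    rfl | rfl | rfl | rfl
  · exact Or.inl (map_one _)
  · exact Or.inr (Or.inl rfl)
  · exact Or.inr (Or.inr (Or.inl rfl))
  · exact Or.inr (Or.inr (Or.inr (map_mul _ _ _)))

theorem four_mem {v : G} (hv : v = 1 ∨ v = c.a ∨ v = c.b ∨ v = c.a * c.b) :
    v ∈ E₀ ∧ v * v = 1 ∧ v * c.a = c.a * v ∧ v * c.b = c.b * v ∧ v ∈ (S : Subgroup G) := by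
  rcases hv with rfl | rfl | rfl | rfl
  · exact ⟨one_mem _, mul_one 1, by simp, by simp, one_mem _⟩
  · exact ⟨c.amem, c.sq_a, rfl, c.comm_ab, c.amemS⟩
  · exact ⟨c.bmem, c.sq_b, c.comm_ab.symm, rfl, c.bmemS⟩
  · have hc : Commute c.a c.b := c.comm_ab
    refine ⟨mul_mem c.amem c.bmem, ?_, ((Commute.refl _).mul_left hc.symm).eq,
      (hc.mul_left (Commute.refl _)).eq, mul_mem c.amemS c.bmemS⟩
    rw [hc.symm.mul_mul_mul_comm, c.sq_a, c.sq_b, one_mul]

/-- The centraliser of an element of odd order of `E₀` is abelian with one involution at most. -/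
theorem oddCent {z : G} (hz : z ∈ E₀) (ho : Odd (orderOf z)) (h1 : z ≠ 1) {x y : G} (hx : x ∈ E₀)
    (hy : y ∈ E₀) (hxz : x * z = z * x) (hyz : y * z = z * y) :
    x * y = y * x ∧ (x * x = 1 → y * y = 1 → x ≠ 1 → y ≠ 1 → x = y) := by
  obtain ⟨z, rfl⟩ := c.exists_emb hz
  obtain ⟨x, rfl⟩ := c.exists_emb hx
  obtain ⟨y, rfl⟩ := c.exists_emb hy
  rw [orderOf_injective c.emb c.emb_injective] at ho
  obtain ⟨h2, h3⟩ := Walter66.odd_centralizer c.two_ne ho (fun h => h1 (by rw [h, map_one]))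
    (c.emb_injective (by rw [map_mul, map_mul, hxz]) : x * z = z * x)
    (c.emb_injective (by rw [map_mul, map_mul, hyz]) : y * z = z * y)
  refine ⟨by rw [← map_mul, h2, map_mul], fun e1 e2 e3 e4 => ?_⟩
  rw [h3 (c.emb_injective (by rw [map_mul, e1, map_one]))
    (c.emb_injective (by rw [map_mul, e2, map_one])) (fun h => e3 (by rw [h, map_one]))
    (fun h => e4 (by rw [h, map_one]))]

/-- A subgroup of odd order of `E₀` normalised by the four-group and `r` is trivial. -/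
theorem kill {X : Subgroup G} (hX : X ≤ E₀) (hXo : Odd (Nat.card X))
    (ha : c.a ∈ normalizer (X : Set G)) (hb : c.b ∈ normalizer (X : Set G))
    (hr : c.r ∈ normalizer (X : Set G)) : X = ⊥ := by
  by_contra hne
  obtain ⟨N, hNX, hN1, hNab, hNn⟩ := GorensteinWalter.Model.exists_abelian X hXo hne
  have hNo : Odd (Nat.card N) := hXo.of_dvd_nat (card_dvd_of_le hNX)
  obtain ⟨v, hv, z, hz, hz1, hvz⟩ : ∃ v : G, (v = c.a ∨ v = c.b ∨ v = c.a * c.b) ∧
      ∃ z ∈ N, z ≠ 1 ∧ v * z * v⁻¹ = z := by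
    by_contra hno
    push Not at hno
    refine hN1 (le_bot_iff.1 (RankOne.Involution.le_of_four_group hNo c.sq_a c.sq_b c.comm_ab
      (hNn c.a ha) (hNn c.b hb) ?_ ?_ ?_))
    · intro x hx hfix
      by_contra hx1
      exact hno c.a (Or.inl rfl) x hx (fun h => hx1 (mem_bot.2 h)) hfix
    · intro x hx hfix
      by_contra hx1
      exact hno c.b (Or.inr (Or.inl rfl)) x hx (fun h => hx1 (mem_bot.2 h)) hfix
    · intro x hx hfix
      by_contra hx1
      exact hno (c.a * c.b) (Or.inr (Or.inr rfl)) x hx (fun h => hx1 (mem_bot.2 h)) hfix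
  have step : ∀ {p q : G}, c.r * p * c.r⁻¹ = q → (∃ z ∈ N, z ≠ 1 ∧ p * z = z * p) →
      ∃ z ∈ N, z ≠ 1 ∧ q * z = z * q := by
    rintro p q hpq ⟨z, hz, hz1, hpz⟩
    refine ⟨c.r * z * c.r⁻¹, hNn _ hr z hz, fun h => hz1 (conj_eq_one_iff.1 h), ?_⟩
    rw [← hpq]
    exact ((show Commute p z from hpz).map (MulAut.conj c.r).toMonoidHom).eq
  have h0 : ∃ z ∈ N, z ≠ 1 ∧ v * z = z * v := ⟨z, hz, hz1, mul_inv_eq_iff_eq_mul.1 hvz⟩
  obtain ⟨⟨z₁, hz₁, hz₁1, ha₁⟩, z₂, hz₂, hz₂1, hb₂⟩ :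
      (∃ z ∈ N, z ≠ 1 ∧ c.a * z = z * c.a) ∧ ∃ z ∈ N, z ≠ 1 ∧ c.b * z = z * c.b := by
    rcases hv with rfl | rfl | rfl
    · exact ⟨h0, step c.conj_rab (step c.conj_ra h0)⟩
    · exact ⟨step c.conj_rb h0, h0⟩
    · exact ⟨step c.conj_rb (step c.conj_rab h0), step c.conj_rab h0⟩
  have ha₂ : c.a * z₂ = z₂ * c.a :=
    (c.oddCent (hX (hNX hz₁)) (odd_orderOf_of_mem hNo hz₁) hz₁1 c.amem (hX (hNX hz₂)) ha₁
      (hNab z₂ hz₂ z₁ hz₁)).1
  exact c.a_ne_b ((c.oddCent (hX (hNX hz₂)) (odd_orderOf_of_mem hNo hz₂) hz₂1 c.amem c.bmem ha₂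
    hb₂).2 c.sq_a c.sq_b c.a_ne_one c.b_ne_one)

/-- `S` is `⟨t⟩ × {1, a, b, ab}`. -/
theorem mem_sylow {s : G} (hs : s ∈ (S : Subgroup G)) :
    ∃ v : G, (v = 1 ∨ v = c.a ∨ v = c.b ∨ v = c.a * c.b) ∧ (s = v ∨ s = t * v) := by
  have hS := c.conf.sylow S
  have hcomm : ∀ {p}, p ∈ (S : Subgroup G) → s * p = p * s := fun hp => comm_Om hS hs hp
  obtain ⟨e, he, hse⟩ := c.conf.decomp s (hcomm c.mem)
  have heS : e ∈ (S : Subgroup G) := by
    rcases hse with rfl | rfl
    · exact hs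
    · exact ((S : Subgroup G).mul_mem_cancel_left c.mem).1 hs
  have he0 : e ∈ E₀ := by
    have h := (c.jr.elementary S).2 e heS
    haveI := c.cent.2.2.1
    have h1 : (⟨e, he⟩ : E) ^ (E₀.subgroupOf E).index ∈ E₀.subgroupOf E := Subgroup.pow_index_mem _ _
    obtain ⟨m, hm⟩ := c.cent.2.2.2.1
    rw [hm, pow_succ, pow_mul, show (⟨e, he⟩ : E) ^ 2 = 1 from Subtype.ext h, one_pow, one_mul] at h1
    exact h1
  exact ⟨e, c.four_cases he0 (comm_Om hS heS c.amemS) (comm_Om hS heS c.bmemS), hse⟩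

/-- An element centralising `t`, `a`, `b` centralises `S`. -/
theorem mem_centralizer {x : G} (ht : x * t = t * x) (ha : x * c.a = c.a * x)
    (hb : x * c.b = c.b * x) : x ∈ centralizer ((S : Subgroup G) : Set G) := by
  refine mem_centralizer_iff.2 fun s hs => ?_
  obtain ⟨v, hv, hsv⟩ := c.mem_sylow hs
  have hxv : Commute x v := by
    rcases hv with rfl | rfl | rfl | rfl
    exacts [Commute.one_right x, ha, hb, Commute.mul_right ha hb]
  rcases hsv with rfl | rfl
  · exact hxv.eq.symm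
  · exact ((show Commute x t from ht).mul_right hxv).eq.symm

/-- An element of odd order of `E` fixing the four-group commutes with `r`. -/
theorem commute_r {x : G} (hxE : x ∈ E) (ho : Odd (orderOf x)) (ha : x * c.a = c.a * x)
    (hb : x * c.b = c.b * x) : x * c.r = c.r * x := by
  set v := c.r⁻¹ * (x * c.r * x⁻¹) with hv
  have hvE : v ∈ E₀ := mul_mem (inv_mem c.rmem) (c.conf.conj₀ x hxE _ c.rmem)
  have key : ∀ {p q : G}, c.r * p * c.r⁻¹ = q → x * p = p * x → x * q = q * x → v * p = p * v := by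
    intro p q hpq hp hq
    have hp' : x⁻¹ * p = p * x⁻¹ := (show Commute x p from hp).inv_left.eq
    calc v * p = c.r⁻¹ * (x * c.r) * (x⁻¹ * p) := by rw [hv]; group
      _ = c.r⁻¹ * (x * c.r) * (p * x⁻¹) := by rw [hp']
      _ = c.r⁻¹ * (x * (c.r * p * c.r⁻¹)) * c.r * x⁻¹ := by group
      _ = c.r⁻¹ * (q * x) * c.r * x⁻¹ := by rw [hpq, hq]
      _ = c.r⁻¹ * ((c.r * p * c.r⁻¹) * x) * c.r * x⁻¹ := by rw [hpq]
      _ = p * v := by rw [hv]; group
  have hcases := c.four_cases hvE (key c.conj_ra ha ((show Commute x c.a from ha).mul_right hb).eq)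
    (key c.conj_rb hb ha)
  obtain ⟨-, hv2, -⟩ := c.four_mem hcases
  have hxv : Commute x v := by
    rcases hcases with h | h | h | h <;> rw [h]
    exacts [Commute.one_right x, ha, hb, Commute.mul_right ha hb]
  have hpow : ∀ n : ℕ, x ^ n * c.r * (x ^ n)⁻¹ = c.r * v ^ n := by
    intro n
    induction n with
    | zero => simp
    | succ n ih =>
      calc x ^ (n + 1) * c.r * (x ^ (n + 1))⁻¹ = x * (x ^ n * c.r * (x ^ n)⁻¹) * x⁻¹ := by
            rw [pow_succ']; group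
        _ = x * c.r * (v ^ n * x⁻¹) := by rw [ih]; group
        _ = x * c.r * (x⁻¹ * v ^ n) := by rw [((hxv.inv_left).pow_right n).eq]
        _ = x * c.r * x⁻¹ * v ^ n := by rw [← mul_assoc]
        _ = c.r * (v * v ^ n) := by
            rw [show x * c.r * x⁻¹ = c.r * v by rw [hv, mul_inv_cancel_left], mul_assoc]
        _ = c.r * v ^ (n + 1) := by rw [pow_succ']
  have hv1 : v = 1 := by
    have h := hpow (orderOf x)
    rw [pow_orderOf_eq_one, one_mul, inv_one, mul_one] at h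
    obtain ⟨m, hm⟩ := ho
    rw [hm, pow_succ, pow_mul, pow_two, hv2, one_pow, one_mul] at h
    exact mul_left_cancel (a := c.r) (by rw [mul_one]; exact h.symm)
  rw [hv, inv_mul_eq_one] at hv1
  exact (mul_inv_eq_iff_eq_mul.1 hv1.symm)

/-- An element of odd order of `C(S)`. -/
theorem of_mem_centralizer {x : G} (hxS : x ∈ centralizer ((S : Subgroup G) : Set G))
    (hxo : Odd (orderOf x)) :
    x ∈ E ∧ x * t = t * x ∧ x * c.a = c.a * x ∧ x * c.b = c.b * x ∧ x * c.r = c.r * x := by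
  have hm : ∀ {s}, s ∈ (S : Subgroup G) → x * s = s * x := fun hs =>
    (mem_centralizer_iff.1 hxS _ hs).symm
  have hxE := c.conf.odd_mem (hm c.mem) hxo
  exact ⟨hxE, hm c.mem, hm c.amemS, hm c.bmemS, c.commute_r hxE hxo (hm c.amemS) (hm c.bmemS)⟩

/-- `r` fixes only `1` and `t` in `S`. -/
theorem eq_of_commute_r {s : G} (hs : s ∈ (S : Subgroup G)) (h : c.r * s * c.r⁻¹ = s) :
    s = 1 ∨ s = t := by
  obtain ⟨v, hv, hsv⟩ := c.mem_sylow hs
  have hrt : c.r * t = t * c.r := c.conf.mem_cent _ (c.conf.le c.rmem)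
  have hv' : c.r * v * c.r⁻¹ = v := by
    rcases hsv with rfl | rfl
    · exact h
    · refine mul_left_cancel (a := t) ?_
      calc t * (c.r * v * c.r⁻¹) = (t * c.r) * v * c.r⁻¹ := by group
        _ = c.r * (t * v) * c.r⁻¹ := by rw [← hrt]; group
        _ = t * v := h
  have hv1 : v = 1 := by
    rcases hv with rfl | rfl | rfl | rfl
    · rfl
    · rw [c.conj_ra, mul_eq_left] at hv'
      exact absurd hv' c.b_ne_one
    · rw [c.conj_rb] at hv'
      exact absurd hv' c.a_ne_b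
    · rw [c.conj_rab, right_eq_mul] at hv'
      exact absurd hv' c.a_ne_one
  subst hv1
  rcases hsv with rfl | rfl
  · exact Or.inl rfl
  · exact Or.inr (mul_one t)

/-- An element of the Sylow subgroup different from `1` and `t` exists. -/
theorem a_ne_t : c.a ≠ t := fun h => c.conf.not_mem (h ▸ c.conf.le c.amem)

end Chart

end Cfsg.Agent.Lib.Walter.NoField.Cent
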