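import Cfsg.Agent.Lib.Walter.NoField.Centralizer.Model
import Cfsg.Agent.Lib.Walter.MonoBase

/-!
# Section Z: the core of the centraliser of an element of odd order of `C(S)`

For `x ∈ C(S)` of odd order `O(C(x)) = ⟨x⟩` (`coreIn_centralizer_eq`).  Owner: helper87.
-/

set_option autoImplicit false
set_option linter.style.haveILetI false
set_option linter.unusedSectionVars false

universe u

namespace Cfsg.Agent.Lib.Walter.NoField.Cent

open Subgroup Matrix Cfsg.Agent.Lib.AutPSL
open scoped MatrixGroups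

variable {G : Type u} [Group G] [Finite G] {S : Sylow 2 G}

theorem sylow_le_centralizer {x : G} (hxS : x ∈ centralizer ((S : Subgroup G) : Set G)) :
    (S : Subgroup G) ≤ centralizer ({x} : Set G) := fun s hs =>
  mem_centralizer_singleton_iff.2 (mem_centralizer_iff.1 hxS s hs)

theorem orderOf_sylow (hG : IsJR G) {s : G} (hs : s ∈ (S : Subgroup G)) (h1 : s ≠ 1) :
    orderOf s = 2 :=
  orderOf_eq_prime ((hG.elementary S).2 s hs) h1

namespace Chart

variable {t : G} {E E₀ : Subgroup G} {F : Type} [Field F] [Fintype F] (c : Chart S t E E₀ F)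
  {x : G} (hxS : x ∈ centralizer ((S : Subgroup G) : Set G)) (hxo : Odd (orderOf x))

include c hxS hxo

theorem r_mem_cent : c.r ∈ centralizer ({x} : Set G) :=
  mem_centralizer_singleton_iff.2 (c.of_mem_centralizer hxS hxo).2.2.2.2.symm

theorem a_mem_cent : c.a ∈ centralizer ({x} : Set G) := sylow_le_centralizer hxS c.amemS

theorem b_mem_cent : c.b ∈ centralizer ({x} : Set G) := sylow_le_centralizer hxS c.bmemS

/-- The core meets `E₀ ∩ C(t)` trivially. -/
theorem core_inf_eq_bot :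
    Balance.coreIn 2 (centralizer ({x} : Set G)) ⊓ E₀ = ⊥ := by
  set R := Balance.coreIn 2 (centralizer ({x} : Set G)) with hR
  have hn : ∀ g ∈ E₀, g ∈ centralizer ({x} : Set G) → g ∈ normalizer ((R ⊓ E₀ : Subgroup G) : Set G) :=
    fun g hg hgC => mem_normalizer_fintype fun y hy =>
      ⟨(mem_normalizer_iff.1 (Balance.le_normalizer_coreIn _ hgC) y).1 hy.1,
        E₀.mul_mem (E₀.mul_mem hg hy.2) (E₀.inv_mem hg)⟩
  exact c.kill inf_le_right
    ((Nat.coprime_two_right.1 (Balance.coreIn_coprime (p := 2) (centralizer ({x} : Set G)))).of_dvd_nat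
      (card_dvd_of_le inf_le_left))
    (hn _ c.amem (c.a_mem_cent hxS hxo)) (hn _ c.bmem (c.b_mem_cent hxS hxo))
    (hn _ c.rmem (c.r_mem_cent hxS hxo))

/-- The fixed points of the core centralise the four-group. -/
theorem core_commute {y : G} (hy : y ∈ Balance.coreIn 2 (centralizer ({x} : Set G)))
    (hyt : y * t = t * y) {e : G} (he : e ∈ E₀) (hex : e ∈ centralizer ({x} : Set G)) :
    y * e = e * y := by
  have hyE := c.conf.odd_mem hyt (odd_orderOf_of_mem
    (Nat.coprime_two_right.1 (Balance.coreIn_coprime (p := 2) (centralizer ({x} : Set G)))) hy)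
  have h : y * e * y⁻¹ * e⁻¹ ∈ Balance.coreIn 2 (centralizer ({x} : Set G)) ⊓ E₀ := by
    refine ⟨?_, E₀.mul_mem (c.conf.conj₀ y hyE e he) (E₀.inv_mem he)⟩
    rw [show y * e * y⁻¹ * e⁻¹ = y * (e * y⁻¹ * e⁻¹) by group]
    exact mul_mem hy ((mem_normalizer_iff.1 (Balance.le_normalizer_coreIn _ hex) _).1 (inv_mem hy))
  rw [c.core_inf_eq_bot hxS hxo, mem_bot, mul_inv_eq_one] at h
  exact mul_inv_eq_iff_eq_mul.1 h

/-- The centraliser of `E₀ ∩ C(x)` among the elements fixing the four-group. -/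
theorem mem_zpowers_of_centralizes {y : G} (hyE : y ∈ E) (hyo : Odd (orderOf y))
    (hya : y * c.a = c.a * y) (hyb : y * c.b = c.b * y)
    (h : ∀ e ∈ E₀, e * x = x * e → y * e = e * y) : y ∈ zpowers x := by
  obtain ⟨hxE, -, hxa, hxb, -⟩ := c.of_mem_centralizer hxS hxo
  obtain ⟨σ, hσ, hσo⟩ := c.exists_fieldAut (y := ⟨x, hxE⟩) hxo hxa hxb
  obtain ⟨τ, hτ, -⟩ := c.exists_fieldAut (y := ⟨y, hyE⟩) hyo hya hyb
  obtain ⟨p, hp⟩ := CharP.exists F
  haveI : Fact p.Prime := ⟨CharP.char_is_prime F p⟩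
  obtain ⟨f, -, hf⟩ := FiniteField.card F p
  have hfix : ∀ v, σ v = v → τ v = v := by
    refine fix_of_fix_range c.two_ne fun q hq => ?_
    rw [mem_range_pslExt_iff c.two_ne hσo] at hq
    have h1 := c.emb_act ⟨x, hxE⟩ q
    rw [hσ, hq] at h1
    have h2 := h _ (c.emb_mem q) (eq_mul_inv_iff_mul_eq.1 h1)
    have h3 := c.emb_act ⟨y, hyE⟩ q
    rw [hτ] at h3
    refine c.emb_injective (h3.trans ?_)
    show y * c.emb q * y⁻¹ = c.emb q
    rw [h2, mul_inv_cancel_right]
  obtain ⟨k, hk⟩ := mem_zpowers_iff.1 (mem_zpowers_of_fix hf σ τ hfix)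
  have he : (⟨y, hyE⟩ : E) = ⟨x, hxE⟩ ^ k :=
    c.act_injective (by rw [map_zpow, hσ, hτ, ← map_zpow fieldAut, hk])
  exact mem_zpowers_iff.2 ⟨k, (congrArg Subtype.val he).symm⟩

/-- `E₀ ∩ C(x) ≅ PSL(2, q₀)` with `q = q₀ ^ o(x)`. -/
theorem exists_fixed_model : ∃ (F₀ : Type) (_ : Field F₀) (_ : Fintype F₀),
    (Fintype.card F₀ % 8 = 3 ∨ Fintype.card F₀ % 8 = 5) ∧
      Fintype.card F = Fintype.card F₀ ^ orderOf x ∧
      Nonempty (↥(E₀ ⊓ centralizer ({x} : Set G)) ≃*
        Matrix.ProjectiveSpecialLinearGroup (Fin 2) F₀) := by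
  classical
  obtain ⟨hxE, -, hxa, hxb, -⟩ := c.of_mem_centralizer hxS hxo
  obtain ⟨σ, hσ, hσo⟩ := c.exists_fieldAut (y := ⟨x, hxE⟩) hxo hxa hxb
  have hord : orderOf σ = orderOf x := by
    have h1 : orderOf (c.act ⟨x, hxE⟩) = orderOf x := by
      rw [orderOf_injective _ c.act_injective, Subgroup.orderOf_mk]
    rw [← h1, hσ, orderOf_injective _ (fieldAut_injective (le_refl 2))]
  obtain ⟨p, hp⟩ := CharP.exists F
  haveI : Fact p.Prime := ⟨CharP.char_is_prime F p⟩
  obtain ⟨f, -, hf⟩ := FiniteField.card F p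
  obtain ⟨hdvd, hc₀⟩ := card_fixField hf hord
  letI : Fintype (fixField σ) := Fintype.ofFinite _
  have hcard : Fintype.card F = Fintype.card (fixField σ) ^ orderOf x := by
    rw [← Nat.card_eq_fintype_card (α := fixField σ), hc₀, ← pow_mul, Nat.div_mul_cancel hdvd, hf]
  refine ⟨fixField σ, inferInstance, inferInstance, ?_, hcard, ?_⟩
  · have h := c.card_mod
    have hodd : Fintype.card (fixField σ) % 2 = 1 := by
      by_contra hne
      have he : Even (Fintype.card F) := by
        rw [hcard, Nat.even_pow]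
        exact ⟨Nat.even_iff.2 (by omega), (orderOf_pos x).ne'⟩
      obtain ⟨k, hk⟩ := he
      omega
    rwa [hcard, pow_mod_eight hodd hxo] at h
  · let ι := c.emb.comp (DicksonFull.pslExt (fixField σ).subtype)
    have hι : Function.Injective ι :=
      c.emb_injective.comp (DicksonFull.pslExt_injective _)
    have hrange : ι.range = E₀ ⊓ centralizer ({x} : Set G) := by
      ext g
      constructor
      · rintro ⟨q, rfl⟩
        refine ⟨c.emb_mem _, mem_centralizer_singleton_iff.2 ?_⟩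
        have h1 := c.emb_act ⟨x, hxE⟩ (DicksonFull.pslExt (fixField σ).subtype q)
        rw [hσ, (mem_range_pslExt_iff c.two_ne hσo _).1 ⟨q, rfl⟩] at h1
        exact eq_mul_inv_iff_mul_eq.1 h1
      · rintro ⟨hg₀, hgx⟩
        obtain ⟨q, rfl⟩ := c.exists_emb hg₀
        have h1 := c.emb_act ⟨x, hxE⟩ q
        rw [hσ] at h1
        have hgx' : c.emb q * x = x * c.emb q := mem_centralizer_singleton_iff.1 hgx
        have h2 : fieldAut σ q = q := c.emb_injective (h1.trans (by
          show x * c.emb q * x⁻¹ = c.emb q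
          rw [← hgx', mul_inv_cancel_right]))
        obtain ⟨q₀, rfl⟩ := (mem_range_pslExt_iff c.two_ne hσo _).2 h2
        exact ⟨q₀, rfl⟩
    exact ⟨((MonoidHom.ofInjective hι).trans (MulEquiv.subgroupCongr hrange)).symm⟩

/-- `C(t) ∩ C(x)` is `⟨t⟩ (E₀ ∩ C(x))` times elements of odd order of `C(S)`. -/
theorem exists_decomp_cent {g : G} (hgt : g * t = t * g) (hgx : g * x = x * g) :
    ∃ e : G, (e = 1 ∨ e = t) ∧ ∃ l ∈ E₀ ⊓ centralizer ({x} : Set G),
      ∃ z ∈ centralizer ((S : Subgroup G) : Set G), Odd (orderOf z) ∧ z * x = x * z ∧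
        g = e * l * z := by
  obtain ⟨hxE, hxt, hxa, hxb, -⟩ := c.of_mem_centralizer hxS hxo
  obtain ⟨y, hy, hgy⟩ := c.conf.decomp g hgt
  obtain ⟨l, hl, z, hzE, hzo, hza, hzb, hyl⟩ := c.exists_mul hy
  have hzS : z ∈ centralizer ((S : Subgroup G) : Set G) :=
    c.mem_centralizer (c.conf.mem_cent z hzE) hza hzb
  have hzx : z * x = x * z := c.commute_fix hzE hxE hzo hxo hza hzb hxa hxb
  have hyx : y * x = x * y := by
    rcases hgy with rfl | rfl
    · exact hgx
    · refine mul_left_cancel (a := t) ?_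
      rw [← mul_assoc, hgx, ← mul_assoc t x y, ← hxt, mul_assoc]
  have hlx : l * x = x * l := by
    refine mul_right_cancel (b := z) ?_
    rw [mul_assoc, ← hzx, ← mul_assoc, ← hyl, hyx, hyl, mul_assoc]
  rcases hgy with rfl | rfl
  · exact ⟨1, Or.inl rfl, l, ⟨hl, mem_centralizer_singleton_iff.2 hlx⟩, z, hzS, hzo, hzx,
      by rw [one_mul, hyl]⟩
  · exact ⟨t, Or.inr rfl, l, ⟨hl, mem_centralizer_singleton_iff.2 hlx⟩, z, hzS, hzo, hzx,
      by rw [hyl, mul_assoc]⟩

end Chart

/-- The core of `C(x)` centralises `S`. -/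
theorem coreIn_le_centralizer (hG : IsJR G) {x : G}
    (hxS : x ∈ centralizer ((S : Subgroup G) : Set G)) (hxo : Odd (orderOf x)) :
    Balance.coreIn 2 (centralizer ({x} : Set G)) ≤ centralizer ((S : Subgroup G) : Set G) := by
  haveI : Fact (Nat.Prime 2) := ⟨Nat.prime_two⟩
  set R := Balance.coreIn 2 (centralizer ({x} : Set G)) with hR
  refine (PLocal.le_iSup_fixOn_hyperplane (A := (S : Subgroup G)) (K := R) (hG.elementary S)
    ((sylow_le_centralizer hxS).trans (Balance.le_normalizer_coreIn _))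
    (Balance.coreIn_coprime (p := 2) (centralizer ({x} : Set G)))).trans (iSup_le fun H => ?_)
  intro y hy
  rw [PLocal.mem_fixOn] at hy
  obtain ⟨v, hv, hv1⟩ : ∃ v ∈ (H : Subgroup G), v ≠ 1 := by
    by_contra hno
    push Not at hno
    have h := H.2.2
    rw [(eq_bot_iff_forall _).2 hno, relIndex_bot_left, hG.card_sylow S] at h
    omega
  have hvS := H.2.1 hv
  obtain ⟨E, E₀, h⟩ := hG.centralizer v (orderOf_sylow hG hvS hv1)
  obtain ⟨F, _, _, ⟨c⟩⟩ := exists_chart hG S (orderOf_sylow hG hvS hv1) hvS h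
  have hyv : y * v = v * y := (hy.2 v hv).symm
  exact c.mem_centralizer hyv
    (c.core_commute hxS hxo hy.1 hyv c.amem (c.a_mem_cent hxS hxo))
    (c.core_commute hxS hxo hy.1 hyv c.bmem (c.b_mem_cent hxS hxo))

/-- `O(C(x)) = ⟨x⟩`. -/
theorem coreIn_centralizer_eq (hG : IsJR G) {x : G}
    (hxS : x ∈ centralizer ((S : Subgroup G) : Set G)) (hxo : Odd (orderOf x)) :
    Balance.coreIn 2 (centralizer ({x} : Set G)) = zpowers x := by
  haveI : Fact (Nat.Prime 2) := ⟨Nat.prime_two⟩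
  refine le_antisymm (fun y hy => ?_) ?_
  · obtain ⟨s, hs, hs1⟩ : ∃ s ∈ (S : Subgroup G), s ≠ 1 := by
      by_contra hno
      push Not at hno
      have h := hG.card_sylow S
      rw [(eq_bot_iff_forall _).2 hno, card_bot] at h
      omega
    obtain ⟨E, E₀, h⟩ := hG.centralizer s (orderOf_sylow hG hs hs1)
    obtain ⟨F, _, _, ⟨c⟩⟩ := exists_chart hG S (orderOf_sylow hG hs hs1) hs h
    have hyo := odd_orderOf_of_mem
      (Nat.coprime_two_right.1 (Balance.coreIn_coprime (p := 2) (centralizer ({x} : Set G)))) hy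
    obtain ⟨hyE, hyt, hya, hyb, -⟩ :=
      c.of_mem_centralizer (coreIn_le_centralizer hG hxS hxo hy) hyo
    exact c.mem_zpowers_of_centralizes hxS hxo hyE hyo hya hyb fun e he hex =>
      c.core_commute hxS hxo hy hyt he (mem_centralizer_singleton_iff.2 hex)
  · refine Balance.le_coreIn (zpowers_le.2 (mem_centralizer_singleton_iff.2 rfl)) ?_ ?_
    · intro g hg
      have hgx : Commute g x := mem_centralizer_singleton_iff.1 hg
      refine mem_normalizer_fintype fun z hz => ?_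
      obtain ⟨k, rfl⟩ := mem_zpowers_iff.1 hz
      rw [(hgx.zpow_right k).eq, mul_inv_cancel_right]
      exact hz
    · rw [Nat.card_zpowers]
      exact Nat.coprime_two_right.2 hxo

end Cfsg.Agent.Lib.Walter.NoField.Cent
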