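import Cfsg.Agent.Lib.Walter.NoField.Centralizer.Chart
import Cfsg.Agent.Lib.AutPSL.LocalCore
import Cfsg.Agent.Lib.AutPSL.FixField
import Cfsg.Agent.Lib.DicksonFull.Subfield

/-!
# Section Z: the elements of odd order of `E` fixing the four-group

They act as field automorphisms; `E = E₀ C_E(a, b)` and the fixed points of such an element in `E₀`
form a `PSL(2, q₀)`.  Owner: helper87.
-/

set_option autoImplicit false
set_option linter.style.haveILetI false
set_option linter.unusedSectionVars false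

universe u

namespace Cfsg.Agent.Lib.Walter.NoField.Cent

open Subgroup Matrix Cfsg.Agent.Lib.AutPSL
open scoped MatrixGroups

variable {G : Type u} [Group G] [Finite G]

theorem pow_mod_eight {q : ℕ} (hq : q % 2 = 1) {r : ℕ} (hr : Odd r) : q ^ r % 8 = q % 8 := by
  obtain ⟨k, rfl⟩ := hr
  have hsq : q * q % 8 = 1 := by
    rw [Nat.mul_mod]
    have h8 : q % 8 = 1 ∨ q % 8 = 3 ∨ q % 8 = 5 ∨ q % 8 = 7 := by omega
    rcases h8 with h | h | h | h <;> rw [h]
  rw [pow_succ, pow_mul, Nat.mul_mod, Nat.pow_mod, pow_two, hsq, one_pow, Nat.one_mod,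
    one_mul, Nat.mod_mod]

/-- The fixed points of a field automorphism of odd order in `PSL(2,F)`. -/
theorem mem_range_pslExt_iff {F : Type} [Field F] (h2 : (2 : F) ≠ 0) {σ : F ≃+* F}
    (hσ : Odd (orderOf σ)) (p : Matrix.ProjectiveSpecialLinearGroup (Fin 2) F) :
    p ∈ (DicksonFull.pslExt (fixField σ).subtype).range ↔ fieldAut σ p = p := by
  constructor
  · rintro ⟨q, rfl⟩
    obtain ⟨s, rfl⟩ := QuotientGroup.mk_surjective q
    rw [DicksonFull.pslExt_mk, fieldAut_mk]
    refine congrArg _ (Subtype.ext (Matrix.ext fun x y => ?_))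
    exact ((s : Matrix (Fin 2) (Fin 2) (fixField σ)) x y).2
  · intro h
    obtain ⟨s, rfl⟩ := QuotientGroup.mk_surjective p
    rw [fieldAut_mk] at h
    rcases Walter66.mk_eq_cases h with hs | hs
    · have hent : ∀ x y, σ ((s : Matrix (Fin 2) (Fin 2) F) x y) =
          (s : Matrix (Fin 2) (Fin 2) F) x y := fun x y => by
        rw [coe_fieldSL] at hs
        exact (congrFun (congrFun hs x) y).symm
      let A : Matrix (Fin 2) (Fin 2) (fixField σ) :=
        Matrix.of fun x y => ⟨(s : Matrix (Fin 2) (Fin 2) F) x y, hent x y⟩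
      have hd : A.det = 1 := by
        apply (fixField σ).subtype.injective
        rw [RingHom.map_det, map_one, ← s.det_coe]
        rfl
      refine ⟨QuotientGroup.mk (⟨A, hd⟩ : Matrix.SpecialLinearGroup (Fin 2) (fixField σ)), ?_⟩
      exact congrArg QuotientGroup.mk (Subtype.ext (Matrix.ext fun _ _ => rfl))
    · exfalso
      have hent : ∀ x y, σ ((s : Matrix (Fin 2) (Fin 2) F) x y) =
          -(s : Matrix (Fin 2) (Fin 2) F) x y := fun x y => by
        rw [coe_fieldSL] at hs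
        have h1 := congrFun (congrFun hs x) y
        rw [Matrix.neg_apply, Matrix.map_apply] at h1
        linear_combination h1
      have hpow : ∀ (k : ℕ) (v : F), σ v = -v → (σ ^ k) v = (-1) ^ k * v := by
        intro k v hv
        induction k with
        | zero => simp
        | succ k ih =>
          rw [pow_succ', RingAut.mul_apply, ih, map_mul, map_pow, map_neg, map_one, hv, pow_succ]
          ring
      have h0 : ∀ x y, (s : Matrix (Fin 2) (Fin 2) F) x y = 0 := fun x y => by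
        have h1 := hpow (orderOf σ) _ (hent x y)
        rw [pow_orderOf_eq_one, RingAut.one_apply, hσ.neg_one_pow, neg_one_mul] at h1
        have h2' : (2 : F) * (s : Matrix (Fin 2) (Fin 2) F) x y = 0 := by
          linear_combination h1
        exact (mul_eq_zero.1 h2').resolve_left h2
      have hd := s.det_coe
      rw [Matrix.det_fin_two, h0, h0, h0, h0] at hd
      simp at hd

/-- An automorphism fixing the points of `PSL(2, F^σ)` fixes `F^σ`. -/
theorem fix_of_fix_range {F : Type} [Field F] (h2 : (2 : F) ≠ 0) {σ τ : F ≃+* F}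
    (h : ∀ p ∈ (DicksonFull.pslExt (fixField σ).subtype).range,
      fieldAut τ p = (p : Matrix.ProjectiveSpecialLinearGroup (Fin 2) F)) :
    ∀ v, σ v = v → τ v = v := by
  intro v hv
  let s : Matrix.SpecialLinearGroup (Fin 2) (fixField σ) :=
    ⟨!![1, ⟨v, hv⟩; 0, 1], by simp [Matrix.det_fin_two_of]⟩
  have h1 := h _ ⟨QuotientGroup.mk s, rfl⟩
  rw [DicksonFull.pslExt_mk, fieldAut_mk] at h1
  have h00 : (DicksonFull.slExt (fixField σ).subtype s : Matrix (Fin 2) (Fin 2) F) 0 0 = 1 := rfl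
  have h01 : (DicksonFull.slExt (fixField σ).subtype s : Matrix (Fin 2) (Fin 2) F) 0 1 = v := rfl
  rcases Walter66.mk_eq_cases h1 with e | e <;> rw [coe_fieldSL] at e
  · have := congrFun (congrFun e 0) 1
    rw [Matrix.map_apply, h01] at this
    exact this.symm
  · exfalso
    have := congrFun (congrFun e 0) 0
    rw [Matrix.neg_apply, Matrix.map_apply, h00, map_one] at this
    exact h2 (by linear_combination this)

namespace Chart

variable {S : Sylow 2 G} {t : G} {E E₀ : Subgroup G} {F : Type} [Field F] [Fintype F]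
  (c : Chart S t E E₀ F)

local notation "PSL2" => Matrix.ProjectiveSpecialLinearGroup (Fin 2) F

/-- The action of `E` on the model. -/
noncomputable def act : ↥E →* MulAut PSL2 :=
  haveI := c.cent.2.2.1
  GorensteinWalter.Model.autHom (E₀.subgroupOf E) ((subgroupOfEquivOfLe c.cent.2.1).trans c.φ)

include c

theorem emb_act (y : E) (p : PSL2) : c.emb (c.act y p) = y * c.emb p * (y : G)⁻¹ := by
  haveI := c.cent.2.2.1
  set e := (subgroupOfEquivOfLe c.cent.2.1).trans c.φ with he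
  have hl : ∀ l, c.emb (e l) = ((l : E) : G) := fun l => by
    simp [he, emb, subgroupOfEquivOfLe]
  obtain ⟨l, rfl⟩ := e.surjective p
  rw [show c.act y (e l) = _ from GorensteinWalter.Model.autHom_apply (E₀.subgroupOf E) e y l, hl, hl,
    MulAut.conjNormal_apply]
  rfl

theorem act_injective : Function.Injective c.act := by
  refine (injective_iff_map_eq_one _).2 fun y hy => Subtype.ext ?_
  refine c.conf.cE y y.2 fun x hx => ?_
  obtain ⟨p, rfl⟩ := c.exists_emb hx
  have h := c.emb_act y p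
  rw [hy, MulAut.one_apply] at h
  exact (eq_mul_inv_iff_mul_eq.1 h).symm

/-- An element of odd order fixing the four-group acts as a field automorphism. -/
theorem exists_fieldAut {y : E} (ho : Odd (orderOf (y : G))) (ha : (y : G) * c.a = c.a * y)
    (hb : (y : G) * c.b = c.b * y) : ∃ τ : F ≃+* F, c.act y = fieldAut τ ∧ Odd (orderOf τ) := by
  haveI := c.cent.2.2.1
  obtain ⟨g, τ, h⟩ := GorensteinWalter.Model.exists_semilinear (E₀.subgroupOf E)
    ((subgroupOfEquivOfLe c.cent.2.1).trans c.φ) y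
  replace h : c.act y = conjAut g * fieldAut τ := h
  have hfix : ∀ s : Matrix.SpecialLinearGroup (Fin 2) F, fieldSL τ s = s →
      (y : G) * c.emb (QuotientGroup.mk s) = c.emb (QuotientGroup.mk s) * y →
      (conjAut g : MulAut PSL2) (QuotientGroup.mk s) = QuotientGroup.mk s := by
    intro s hs hc
    have h1 := c.emb_act y (QuotientGroup.mk s)
    rw [hc, mul_inv_cancel_right, h, MulAut.mul_apply, fieldAut_mk, hs] at h1
    exact c.emb_injective h1
  obtain ⟨v, hv, hg⟩ := c.quat.fix_linear c.two_ne (hfix _ (c.fix_i τ) ha) (hfix _ (c.fix_j τ) hb)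
  have hv' : fieldAut τ v = v ∧ v * v = 1 := by
    have hi : fieldAut τ (QuotientGroup.mk c.i : PSL2) = QuotientGroup.mk c.i := by
      rw [fieldAut_mk, c.fix_i]
    have hj : fieldAut τ (QuotientGroup.mk c.j : PSL2) = QuotientGroup.mk c.j := by
      rw [fieldAut_mk, c.fix_j]
    rcases hv with rfl | rfl | rfl | rfl
    · exact ⟨map_one _, mul_one 1⟩
    · exact ⟨hi, c.quat.sq_mk_i⟩
    · exact ⟨hj, c.quat.sq_mk_j⟩
    · refine ⟨by rw [map_mul, hi, hj], ?_⟩
      have hc : Commute (QuotientGroup.mk c.i : PSL2) (QuotientGroup.mk c.j) := c.quat.comm_mk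
      rw [hc.symm.mul_mul_mul_comm, c.quat.sq_mk_i, c.quat.sq_mk_j, one_mul]
  have hcomm : Commute (conjAut g : MulAut PSL2) (fieldAut τ) := by
    rw [hg]
    refine MulEquiv.ext fun p => ?_
    simp only [MulAut.mul_apply, MulAut.conj_apply, map_mul, map_inv, hv'.1]
  obtain ⟨m, hm⟩ := ho
  have h1 : (conjAut g : MulAut PSL2) * fieldAut (τ ^ orderOf (y : G)) = 1 := by
    have h2 : c.act y ^ orderOf (y : G) = 1 := by
      rw [← map_pow, Subgroup.orderOf_coe, pow_orderOf_eq_one, map_one]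
    have h3 : (conjAut g : MulAut PSL2) ^ 2 = 1 := by rw [hg, ← map_pow, pow_two, hv'.2, map_one]
    rw [h, hcomm.mul_pow, ← map_pow fieldAut] at h2
    rwa [hm, pow_succ (conjAut g : MulAut PSL2), pow_mul, h3, one_pow, one_mul, ← hm] at h2
  obtain ⟨hgz, hτ⟩ := eq_one_of_conj_field (le_refl 2) h1
  have hg1 : (conjAut g : MulAut PSL2) = 1 := by
    rwa [hτ, map_one, mul_one] at h1
  exact ⟨τ, by rw [h, hg1, one_mul],
    (show Odd (orderOf (y : G)) from ⟨m, hm⟩).of_dvd_nat (orderOf_dvd_of_pow_eq_one hτ)⟩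

/-- The elements of odd order of `E` fixing the four-group commute. -/
theorem commute_fix {x y : G} (hxE : x ∈ E) (hyE : y ∈ E) (hxo : Odd (orderOf x))
    (hyo : Odd (orderOf y)) (hxa : x * c.a = c.a * x) (hxb : x * c.b = c.b * x)
    (hya : y * c.a = c.a * y) (hyb : y * c.b = c.b * y) : x * y = y * x := by
  obtain ⟨σ, hσ, -⟩ := c.exists_fieldAut (y := ⟨x, hxE⟩) hxo hxa hxb
  obtain ⟨τ, hτ, -⟩ := c.exists_fieldAut (y := ⟨y, hyE⟩) hyo hya hyb
  have h : (⟨x, hxE⟩ : E) * ⟨y, hyE⟩ = ⟨y, hyE⟩ * ⟨x, hxE⟩ :=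
    c.act_injective (by rw [map_mul, map_mul, hσ, hτ, ← map_mul, ← map_mul, fieldAut_comm])
  exact congrArg Subtype.val h

/-- A `2`-element of `E` fixing `a` does not carry `b` to `ab`. -/
theorem no_swap {z : G} (_ : z ∈ E) (ha : z * c.a * z⁻¹ = c.a)
    (hb : z * c.b * z⁻¹ = c.a * c.b) : False := by
  haveI : Fact (Nat.Prime 2) := ⟨Nat.prime_two⟩
  obtain ⟨k, m, hm, hkm⟩ := Nat.exists_eq_two_pow_mul_odd (orderOf_pos z).ne'
  set w := z ^ m with hw
  have hconj : ∀ n : ℕ, (z ^ n * c.a * (z ^ n)⁻¹ = c.a) ∧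
      (Odd n → z ^ n * c.b * (z ^ n)⁻¹ = c.a * c.b) ∧ (Even n → z ^ n * c.b * (z ^ n)⁻¹ = c.b) := by
    intro n
    induction n with
    | zero => simp
    | succ n ih =>
      obtain ⟨i1, i2, i3⟩ := ih
      have e : ∀ p, z ^ (n + 1) * p * (z ^ (n + 1))⁻¹ = z * (z ^ n * p * (z ^ n)⁻¹) * z⁻¹ :=
        fun p => by rw [pow_succ']; group
      refine ⟨by rw [e, i1, ha], fun h => ?_, fun h => ?_⟩
      · rw [e, i3 (by simpa [Nat.odd_add_one] using h), hb]
      · rw [e, i2 (by simpa [Nat.even_add_one] using h),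
          show z * (c.a * c.b) * z⁻¹ = (z * c.a * z⁻¹) * (z * c.b * z⁻¹) by group, ha, hb,
          ← mul_assoc, c.sq_a, one_mul]
  have hwb : w * c.b * w⁻¹ = c.a * c.b := (hconj m).2.1 hm
  have hwa : w * c.a * w⁻¹ = c.a := (hconj m).1
  have hV := Walter66.closure_pgroup (s := ({c.a, c.b} : Set G))
    (by rintro x (rfl | rfl); exacts [c.sq_a, c.sq_b])
    (by rintro x (rfl | rfl) y (rfl | rfl); exacts [rfl, c.comm_ab, c.comm_ab.symm, rfl])
  set V := Subgroup.closure ({c.a, c.b} : Set G) with hVdef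
  have haV : c.a ∈ V := subset_closure (Or.inl rfl)
  have hbV : c.b ∈ V := subset_closure (Or.inr rfl)
  have hn : w ∈ normalizer (V : Set G) := by
    have hmap : V.map (MulAut.conj w).toMonoidHom ≤ V := by
      rw [hVdef, MonoidHom.map_closure, Subgroup.closure_le]
      rintro _ ⟨p, rfl | rfl, rfl⟩
      · show w * c.a * w⁻¹ ∈ V
        rw [hwa]; exact haV
      · show w * c.b * w⁻¹ ∈ V
        rw [hwb]; exact mul_mem haV hbV
    exact mem_normalizer_fintype fun p hp => hmap (mem_map_of_mem _ hp)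
  have hw2 : IsPGroup 2 (zpowers w) := by
    have : orderOf w = 2 ^ k := by
      rw [hw, orderOf_pow' z hm.pos.ne', hkm, Nat.gcd_eq_right (Dvd.intro_left _ rfl),
        Nat.mul_div_cancel _ hm.pos]
    exact IsPGroup.of_card (n := k) (by rw [Nat.card_zpowers, this])
  have hP := hw2.to_sup_of_normal_right' hV (zpowers_le.2 hn)
  have h := Walter66.pgroup_comm c.conf.sylow hP (mem_sup_left (mem_zpowers w))
    (mem_sup_right hbV)
  rw [h, mul_inv_cancel_right, right_eq_mul] at hwb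
  exact c.a_ne_one hwb

/-- `E = E₀ C_E(a, b)`, with the second factor of odd order. -/
theorem exists_mul {y : G} (hy : y ∈ E) : ∃ l ∈ E₀, ∃ z ∈ E, Odd (orderOf z) ∧
    z * c.a = c.a * z ∧ z * c.b = c.b * z ∧ y = l * z := by
  haveI : Fact (Nat.Prime 2) := ⟨Nat.prime_two⟩
  -- conjugate the four-group back
  set a' : E₀ := ⟨y * c.a * y⁻¹, c.conf.conj₀ y hy _ c.amem⟩ with ha'
  set b' : E₀ := ⟨y * c.b * y⁻¹, c.conf.conj₀ y hy _ c.bmem⟩ with hb'
  set a₀ : E₀ := ⟨c.a, c.amem⟩ with ha₀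
  set b₀ : E₀ := ⟨c.b, c.bmem⟩ with hb₀
  have hc0 : a₀ * b₀ = b₀ * a₀ := Subtype.ext c.comm_ab
  have hc1 : a' * b' = b' * a' := Subtype.ext
    ((show Commute c.a c.b from c.comm_ab).map (MulAut.conj y).toMonoidHom).eq
  have hs : ∀ p : G, p * p = 1 → y * p * y⁻¹ * (y * p * y⁻¹) = 1 := fun p hp => by
    rw [show y * p * y⁻¹ * (y * p * y⁻¹) = y * (p * p) * y⁻¹ by group, hp, mul_one, mul_inv_cancel]
  obtain ⟨P, hP⟩ := (Walter66.closure_pgroup (s := ({a₀, b₀} : Set E₀))
    (by rintro x (rfl | rfl); exacts [Subtype.ext c.sq_a, Subtype.ext c.sq_b])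
    (by rintro x (rfl | rfl) z (rfl | rfl); exacts [rfl, hc0, hc0.symm, rfl])).exists_le_sylow
  obtain ⟨Q, hQ⟩ := (Walter66.closure_pgroup (s := ({a', b'} : Set E₀))
    (by rintro x (rfl | rfl); exacts [Subtype.ext (hs _ c.sq_a), Subtype.ext (hs _ c.sq_b)])
    (by rintro x (rfl | rfl) z (rfl | rfl); exacts [rfl, hc1, hc1.symm, rfl])).exists_le_sylow
  obtain ⟨g, hg⟩ := MulAction.exists_smul_eq E₀ Q P
  have hmem : ∀ p ∈ (Q : Subgroup E₀),
      ((g : G) * p * (g : G)⁻¹ = 1 ∨ (g : G) * p * (g : G)⁻¹ = c.a ∨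
        (g : G) * p * (g : G)⁻¹ = c.b ∨ (g : G) * p * (g : G)⁻¹ = c.a * c.b) := by
    intro p hp
    have hgp : g * p * g⁻¹ ∈ (P : Subgroup E₀) := by
      rw [← hg, Sylow.coe_subgroup_smul]
      exact Subgroup.smul_mem_pointwise_smul (a := MulAut.conj g) p _ hp
    have hpg := P.isPGroup'.map E₀.subtype
    exact c.four_cases (g * p * g⁻¹).2
      (Walter66.pgroup_comm c.conf.sylow hpg (mem_map_of_mem _ hgp)
        (mem_map_of_mem E₀.subtype (hP (subset_closure (Or.inl rfl)))))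
      (Walter66.pgroup_comm c.conf.sylow hpg (mem_map_of_mem _ hgp)
        (mem_map_of_mem E₀.subtype (hP (subset_closure (Or.inr rfl)))))
  set z₁ := (g : G) * y with hz₁
  have hz₁E : z₁ ∈ E := mul_mem (c.conf.le g.2) hy
  have hca := hmem a' (hQ (subset_closure (Or.inl rfl)))
  have hcb := hmem b' (hQ (subset_closure (Or.inr rfl)))
  have e₁ : ∀ p : G, (g : G) * (y * p * y⁻¹) * (g : G)⁻¹ = z₁ * p * z₁⁻¹ := fun p => by
    rw [hz₁]; group
  simp only [ha', hb', e₁] at hca hcb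
  have hne : ∀ {p : G}, p ≠ 1 → z₁ * p * z₁⁻¹ ≠ 1 := fun hp h => hp (conj_eq_one_iff.1 h)
  set V : Set G := {v | v = 1 ∨ v = c.a ∨ v = c.b ∨ v = c.a * c.b} with hV
  have hrV : ∀ v ∈ V, c.r * v * c.r⁻¹ ∈ V := by
    rintro v (rfl | rfl | rfl | rfl)
    · exact Or.inl (by simp)
    · exact Or.inr (Or.inr (Or.inr c.conj_ra))
    · exact Or.inr (Or.inl c.conj_rb)
    · exact Or.inr (Or.inr (Or.inl c.conj_rab))
  have hrrV : ∀ v ∈ V, c.r * c.r * v * (c.r * c.r)⁻¹ ∈ V := fun v hv => by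
    rw [show c.r * c.r * v * (c.r * c.r)⁻¹ = c.r * (c.r * v * c.r⁻¹) * c.r⁻¹ by group]
    exact hrV _ (hrV v hv)
  obtain ⟨d, hd, hdV, hda⟩ : ∃ d ∈ E₀, (∀ v ∈ V, d * v * d⁻¹ ∈ V) ∧
      d * (z₁ * c.a * z₁⁻¹) * d⁻¹ = c.a := by
    rcases hca with h | h | h | h
    · exact absurd h (hne c.a_ne_one)
    · exact ⟨1, one_mem _, fun v hv => by simpa using hv, by rw [h]; simp⟩
    · exact ⟨c.r, c.rmem, hrV, by rw [h, c.conj_rb]⟩
    · refine ⟨c.r * c.r, mul_mem c.rmem c.rmem, hrrV, ?_⟩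
      rw [h, show c.r * c.r * (c.a * c.b) * (c.r * c.r)⁻¹ =
        c.r * (c.r * (c.a * c.b) * c.r⁻¹) * c.r⁻¹ by group, c.conj_rab, c.conj_rb]
  set z := d * z₁ with hz
  have hzE : z ∈ E := mul_mem (c.conf.le hd) hz₁E
  have e₂ : ∀ p : G, d * (z₁ * p * z₁⁻¹) * d⁻¹ = z * p * z⁻¹ := fun p => by rw [hz]; group
  rw [e₂] at hda
  have hzb : z * c.b * z⁻¹ = c.b := by
    have hb4 := hdV _ hcb
    rw [e₂] at hb4
    rcases hb4 with h | h | h | h
    · exact absurd (conj_eq_one_iff.1 h) c.b_ne_one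
    · exact absurd (mul_left_cancel (mul_right_cancel (h.trans hda.symm))) c.a_ne_b.symm
    · exact h
    · exact (c.no_swap hzE hda h).elim
  have hza : Commute z c.a := mul_inv_eq_iff_eq_mul.1 hda
  have hzbc : Commute z c.b := mul_inv_eq_iff_eq_mul.1 hzb
  obtain ⟨k, m, hm, hkm⟩ := Nat.exists_eq_two_pow_mul_odd (orderOf_pos z).ne'
  obtain ⟨A, B, hAB⟩ : ∃ A B : ℤ, ((2 ^ k : ℕ) : ℤ) * A + (m : ℤ) * B = 1 := by
    refine ⟨Nat.gcdA (2 ^ k) m, Nat.gcdB (2 ^ k) m, ?_⟩
    rw [← Nat.gcd_eq_gcd_ab, Nat.Coprime.pow_left k (Nat.coprime_two_left.2 hm)]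
    simp
  set z' := z ^ (((2 ^ k : ℕ) : ℤ) * A) with hz'
  set v := z ^ ((m : ℤ) * B) with hv
  have hsplit : z = v * z' := by
    rw [hv, hz', ← _root_.zpow_add, add_comm, hAB, zpow_one]
  have hord : ∀ n : ℤ, z ^ (((2 ^ k * m : ℕ) : ℤ) * n) = 1 := fun n => by
    rw [_root_.zpow_mul, zpow_natCast, ← hkm, pow_orderOf_eq_one, _root_.one_zpow]
  have hz'o : Odd (orderOf z') := by
    refine hm.of_dvd_nat (orderOf_dvd_of_pow_eq_one ?_)
    rw [hz', ← zpow_natCast, ← _root_.zpow_mul]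
    convert hord A using 2
    push_cast
    ring
  have hv0 : v ∈ E₀ := by
    haveI := c.cent.2.2.1
    set n := (E₀.subgroupOf E).index with hn
    have h1 : v ^ n ∈ E₀ := by
      have := Subgroup.pow_index_mem (E₀.subgroupOf E) (⟨v, zpow_mem hzE _⟩ : E)
      exact this
    have h2 : v ^ 2 ^ k = 1 := by
      rw [hv, ← zpow_natCast, ← _root_.zpow_mul]
      convert hord B using 2
      push_cast
      ring
    obtain ⟨s, hs⟩ := exists_pow_eq_self_of_coprime (x := v) (n := n)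
      ((Nat.coprime_two_right.2 c.cent.2.2.2.1).pow_right k |>.coprime_dvd_right
        (orderOf_dvd_of_pow_eq_one h2))
    exact hs ▸ pow_mem h1 s
  refine ⟨(g : G)⁻¹ * d⁻¹ * v, mul_mem (mul_mem (inv_mem g.2) (inv_mem hd)) hv0, z',
    zpow_mem hzE _, hz'o, (hza.zpow_left _).eq, (hzbc.zpow_left _).eq, ?_⟩
  rw [mul_assoc, ← hsplit, hz, hz₁]
  group

end Chart

end Cfsg.Agent.Lib.Walter.NoField.Cent
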