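import Cfsg.Agent.Lib.Walter.NoField.Centralizer.Core
import Cfsg.Agent.Lib.Walter.JRCore.Quot
import Cfsg.Agent.Lib.Walter.Assemble
import Cfsg.Agent.Lib.Walter.KnownFacts

/-!
# Section Z: the centraliser of an element of odd order of `C(S)` modulo its core

`JRCore.Quo C(x)` has no involution of `S` in its centre; if it is not solvable it has one component,
of odd index, containing the image of `S`.  Owner: helper87.
-/

set_option autoImplicit false
set_option linter.style.haveILetI false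
set_option linter.unusedSectionVars false

universe u

namespace Cfsg.Agent.Lib.Walter.NoField.Cent

open Subgroup JRCore

variable {G : Type u} [Group G] [Finite G] {S : Sylow 2 G}

theorem hyp_of (hK : PropKnown.{u}) (hG : IsJR G) : Hyp G := by
  have hab : AbelianSylow G := fun P => (hG.elementary P).1
  obtain ⟨P⟩ : Nonempty (Sylow 2 G) := inferInstance
  have h4 : 4 ∣ Nat.card G :=
    (show 4 ∣ 8 by norm_num).trans (hG.card_sylow P ▸ Subgroup.card_subgroup_dvd_card _)
  exact ⟨hG.simple, Known.not_comm_of_four hG.simple h4, hab, fun H _ N _ L hs hn =>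
    hK L hs hn (abelianSylow_subgroup (abelianSylow_quotient (abelianSylow_subgroup hab H) N) L)⟩

theorem centralizer_ne_top (hG : IsJR G) {x : G} (hx1 : x ≠ 1) :
    centralizer ({x} : Set G) ≠ ⊤ := by
  intro htop
  haveI := hG.simple
  have hz : x ∈ Subgroup.center G :=
    mem_center_iff.2 fun g => mem_centralizer_singleton_iff.1 (htop ▸ mem_top g)
  rcases (inferInstance : (Subgroup.center G).Normal).eq_bot_or_eq_top with h | h
  · exact hx1 (mem_bot.1 (h ▸ hz))
  · obtain ⟨P⟩ : Nonempty (Sylow 2 G) := inferInstance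
    refine Known.not_comm_of_four hG.simple
      ((show 4 ∣ 8 by norm_num).trans (hG.card_sylow P ▸ Subgroup.card_subgroup_dvd_card _)) ?_
    exact ⟨⟨fun a b => mem_center_iff.1 (h ▸ mem_top b) a⟩⟩

section

variable (hG : IsJR G) {x : G} (hxS : x ∈ centralizer ((S : Subgroup G) : Set G))
  (hxo : Odd (orderOf x))

include hG hxS hxo

/-- An element of `C(x)` fusing two elements of `S` modulo the core fuses them. -/
theorem conj_eq_of_qm {g : G} (hg : g ∈ centralizer ({x} : Set G)) {s s' : G}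
    (hs : s ∈ (S : Subgroup G)) (hs' : s' ∈ (S : Subgroup G))
    (he : qm (centralizer ({x} : Set G)) ⟨g, hg⟩ * qm _ ⟨s, sylow_le_centralizer hxS hs⟩ *
      (qm (centralizer ({x} : Set G)) ⟨g, hg⟩)⁻¹ = qm _ ⟨s', sylow_le_centralizer hxS hs'⟩) :
    g * s * g⁻¹ = s' := by
  set C := centralizer ({x} : Set G) with hC
  have hsq : ∀ p ∈ (S : Subgroup G), p * p = 1 := fun p hp => by
    have := (hG.elementary S).2 p hp
    rwa [pow_two] at this
  have hmem : g * s * g⁻¹ * s'⁻¹ ∈ C :=
    mul_mem (mul_mem (mul_mem hg (sylow_le_centralizer hxS hs)) (inv_mem hg))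
      (inv_mem (sylow_le_centralizer hxS hs'))
  have hcore : g * s * g⁻¹ * s'⁻¹ ∈ zpowers x := by
    rw [← coreIn_centralizer_eq hG hxS hxo]
    refine (qm_eq_one_iff hmem).1 ?_
    have e : (⟨g * s * g⁻¹ * s'⁻¹, hmem⟩ : ↥C) = ⟨g, hg⟩ * ⟨s, sylow_le_centralizer hxS hs⟩ *
        ⟨g, hg⟩⁻¹ * ⟨s', sylow_le_centralizer hxS hs'⟩⁻¹ := rfl
    rw [e, map_mul, map_mul, map_mul, map_inv, map_inv, he, mul_inv_cancel]
  obtain ⟨k, hk⟩ := mem_zpowers_iff.1 hcore
  have hs'x : Commute (x ^ k) s' :=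
    (show Commute x s' from (mem_centralizer_iff.1 hxS s' hs').symm).zpow_left k
  have hgs : g * s * g⁻¹ = x ^ k * s' := by rw [hk, inv_mul_cancel_right]
  have h2 : (x ^ k) * (x ^ k) = 1 := by
    have h : g * s * g⁻¹ * (g * s * g⁻¹) = 1 := by
      rw [show g * s * g⁻¹ * (g * s * g⁻¹) = g * (s * s) * g⁻¹ by group, hsq s hs, mul_one,
        mul_inv_cancel]
    rw [hgs, hs'x.symm.mul_mul_mul_comm, hsq s' hs', mul_one] at h
    exact h
  have ho : Odd (orderOf (x ^ k)) :=
    hxo.of_dvd_nat (orderOf_dvd_of_pow_eq_one (by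
      rw [← zpow_natCast, ← zpow_mul, mul_comm, zpow_mul, zpow_natCast, pow_orderOf_eq_one,
        one_zpow]))
  have h1 : x ^ k = 1 := orderOf_eq_one_iff.1 (Nat.eq_one_of_dvd_coprimes
    (Nat.coprime_two_left.2 ho) (orderOf_dvd_of_pow_eq_one (by rw [pow_two, h2])) dvd_rfl)
  rw [hgs, h1, one_mul]

/-- The centraliser of the image of `s ∈ S` is the image of `C(s) ∩ C(x)`. -/
theorem exists_lift_commute {s : G} (hs : s ∈ (S : Subgroup G))
    {y : Quo (centralizer ({x} : Set G))}
    (hy : y * qm _ ⟨s, sylow_le_centralizer hxS hs⟩ = qm _ ⟨s, sylow_le_centralizer hxS hs⟩ * y) :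
    ∃ g : ↥(centralizer ({x} : Set G)), (g : G) * s = s * g ∧ qm _ g = y := by
  obtain ⟨g, rfl⟩ := qm_surjective _ y
  exact ⟨g, mul_inv_eq_iff_eq_mul.1 (conj_eq_of_qm hG hxS hxo g.2 hs hs
    (mul_inv_eq_iff_eq_mul.2 hy)), rfl⟩

/-- No involution of `S` is central modulo the core. -/
theorem eq_one_of_qm_mem_center {s : G} (hs : s ∈ (S : Subgroup G))
    (hc : qm _ ⟨s, sylow_le_centralizer hxS hs⟩ ∈
      Subgroup.center (Quo (centralizer ({x} : Set G)))) : s = 1 := by
  have hfix : ∀ g ∈ centralizer ({x} : Set G), g * s * g⁻¹ = s := fun g hg =>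
    conj_eq_of_qm hG hxS hxo hg hs hs (by
      rw [mem_center_iff.1 hc, mul_inv_cancel_right])
  by_contra h1
  obtain ⟨E, E₀, h⟩ := hG.centralizer s (orderOf_sylow hG hs h1)
  obtain ⟨F, _, _, ⟨c⟩⟩ := exists_chart hG S (orderOf_sylow hG hs h1) hs h
  obtain ⟨E', E₀', h'⟩ := hG.centralizer c.a c.ord_a
  obtain ⟨F', _, _, ⟨c'⟩⟩ := exists_chart hG S c.ord_a c.amemS h'
  rcases c'.eq_of_commute_r hs (hfix _ (c'.r_mem_cent hxS hxo)) with h2 | h2
  · exact h1 h2
  · exact c.a_ne_t h2.symm

/-- The solvable case. -/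
theorem le_normalizer_of_solvable (hK : PropKnown.{u}) (hL : PropKnownFacts.{u}) (hx1 : x ≠ 1)
    (hsol : Group.IsSolvable (Quo (centralizer ({x} : Set G)))) :
    centralizer ({x} : Set G) ≤ normalizer ((S : Subgroup G) : Set G) := by
  haveI : Fact (Nat.Prime 2) := ⟨Nat.prime_two⟩
  haveI := hsol
  set C := centralizer ({x} : Set G) with hC
  have hSC := sylow_le_centralizer hxS
  have hX := goodQuo (hyp_of hK hG) hL (centralizer_ne_top hG hx1)
  set T := quoSylow hSC with hT
  have hl : Cfsg.layer (Quo C) = ⊥ := sSup_eq_bot.2 fun K hK' =>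
    absurd hsol (JRBal.not_solvable_of_component hK')
  have hTn : (T : Subgroup (Quo C)).Normal := by
    have hF : Cfsg.generalizedFittingSubgroup (Quo C) = (T : Subgroup (Quo C)) := by
      refine le_antisymm ?_ (hX.sylow_le_fstar T)
      rw [Cfsg.generalizedFittingSubgroup, hl, bot_sup_eq]
      exact hX.fitting_le T
    exact hF ▸ by
      haveI := Components.GenFitting.generalizedFitting_characteristic (G := Quo C)
      infer_instance
  intro g hg
  refine mem_normalizer_fintype fun s hs => ?_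
  obtain ⟨s', hs', he⟩ := (mem_quoSylow hSC).1
    (hTn.conj_mem _ (qm_mem_quoSylow hSC hs) (qm C ⟨g, hg⟩))
  rw [conj_eq_of_qm hG hxS hxo hg hs hs' he.symm]
  exact hs'

/-- A component modulo the core contains the image of `S` and has odd index. -/
theorem component_props (hK : PropKnown.{u}) (hL : PropKnownFacts.{u}) (hx1 : x ≠ 1)
    {K : Subgroup (Quo (centralizer ({x} : Set G)))} (hKc : Cfsg.IsComponent K) :
    K.Normal ∧ (quoSylow (sylow_le_centralizer hxS) : Subgroup _) ≤ K ∧
      centralizer (K : Set (Quo (centralizer ({x} : Set G)))) = ⊥ ∧ Odd K.index ∧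
      IsKnownA ↥K ∧ ∀ P : Sylow 2 ↥K, Nat.card ↥(P : Subgroup ↥K) = 8 := by
  haveI : Fact (Nat.Prime 2) := ⟨Nat.prime_two⟩
  have hSC := sylow_le_centralizer hxS
  have hyp := hyp_of hK hG
  have hCt := centralizer_ne_top hG hx1
  have hX := goodQuo hyp hL hCt
  have h8 := eightQuo hSC (fun a ha => by
    have := (hG.elementary S).2 a ha
    rwa [pow_two] at this) (hG.card_sylow S)
  set T := quoSylow hSC with hT
  rcases JRBal.card_inf_cases hX h8 hKc with ⟨-, h2⟩ | ⟨h8', h1⟩
  · exfalso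
    obtain ⟨y, hy, hy1⟩ : ∃ y ∈ (T : Subgroup (Quo (centralizer ({x} : Set G)))) ⊓ centralizer (K : Set (Quo (centralizer ({x} : Set G)))), y ≠ 1 := by
      by_contra hno
      push Not at hno
      rw [(eq_bot_iff_forall _).2 hno, card_bot] at h2
      omega
    obtain ⟨s, hs, hsy⟩ := (mem_quoSylow hSC).1 hy.1
    have hc := (JRBal.centralizer_eq hX h8 hKc h2 y hy.2).2
    rw [← hsy] at hc
    have hs1 : (s : G) = 1 := eq_one_of_qm_mem_center hG hxS hxo hs hc
    exact hy1 (by rw [← hsy, show s = 1 from Subtype.ext hs1, map_one])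
  · have hTK : (T : Subgroup (Quo (centralizer ({x} : Set G)))) ≤ K := by
      have h := eq_of_le_of_card_ge (inf_le_left : (T : Subgroup (Quo (centralizer ({x} : Set G)))) ⊓ K ≤ T)
        (by rw [h8', h8.card])
      exact h ▸ inf_le_right
    refine ⟨JRBal.comp_normal hX h8 hKc, hTK, JRBal.centralizer_eq_bot hX h8 hKc h1, ?_,
      known_component hyp hCt hKc hX, fun P => ?_⟩
    · rw [← Nat.not_even_iff_odd, even_iff_two_dvd]
      exact fun h => T.not_dvd_index (h.trans (index_dvd_of_le hTK))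
    · rw [Nat.card_congr (Sylow.equiv P (T.subtype hTK)).toEquiv, Sylow.coe_subtype,
        Nat.card_congr (subgroupOfEquivOfLe hTK).toEquiv, h8.card]

end

end Cfsg.Agent.Lib.Walter.NoField.Cent
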